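import Groth.Prelude.Def_W4c2arithlefschetzGraph
import Mathlib

/-!
# The intersection matrix of a blow-up graph
-/

set_option autoImplicit false

open Matrix

namespace Groth.Agent.ArLefGraph

open ArLef ArLef.BlowupGraph

variable {n : ℕ} (G : BlowupGraph n)

/-- Strict transforms expressed in total transforms. -/
def U : Matrix (Fin n) (Fin n) ℚ :=
  fun p m => (if p = m then 1 else 0) - (if p ∈ G.par m then 1 else 0)

/-- Total transforms expressed in strict transforms. -/
def T : Matrix (Fin n) (Fin n) ℚ := fun k i => (G.tt k i : ℚ)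

theorem self_notMem_par (p : Fin n) : p ∉ G.par p := fun h => lt_irrefl p (G.par_lt p p h)

theorem ttN_eq_zero {k m : ℕ} (h : m < k) : G.ttN k m = 0 := by
  rw [ttN]; simp [h]

theorem parN_eq (m : Fin n) : G.parN m.1 = (G.par m).map Fin.valEmbedding := by
  rw [parN, dif_pos m.2]

theorem tt_sub (k m : Fin n) :
    G.tt k m - ∑ p ∈ G.par m, G.tt k p = if k = m then 1 else 0 := by
  rcases lt_trichotomy m k with h | h | h
  · rw [if_neg h.ne']
    have h0 : G.tt k m = 0 := ttN_eq_zero G h
    rw [h0, Finset.sum_eq_zero]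
    · ring
    · exact fun p hp => ttN_eq_zero G ((G.par_lt m p hp).trans h)
  · subst h
    rw [if_pos rfl, Finset.sum_eq_zero]
    · show G.ttN m.1 m.1 - 0 = 1
      rw [ttN]; simp
    · exact fun p hp => ttN_eq_zero G (G.par_lt m p hp)
  · rw [if_neg h.ne]
    have : G.tt k m = ∑ p ∈ G.par m, G.tt k p := by
      show G.ttN k.1 m.1 = _
      rw [ttN, if_neg (not_lt.2 h.le : ¬ m.1 < k.1), if_neg (fun e : m.1 = k.1 => h.ne' (Fin.ext e)),
        Finset.sum_attach (G.parN m.1) (fun p => G.ttN k.1 p), parN_eq, Finset.sum_map]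
      rfl
    rw [this, sub_self]

theorem T_mul_U : T G * U G = 1 := by
  ext k m
  simp only [Matrix.mul_apply, T, U, mul_sub, mul_ite, mul_one, mul_zero, Finset.sum_sub_distrib,
    Finset.sum_ite_eq', Finset.mem_univ, if_true, Finset.sum_ite_mem, Finset.univ_inter]
  rw [Matrix.one_apply]
  have := congrArg (fun z : ℤ => (z : ℚ)) (tt_sub G k m)
  simpa using this

theorem U_mul_T : U G * T G = 1 := mul_eq_one_comm.1 (T_mul_U G)

theorem adj_symm (p q : Fin n) : G.Adj p q ↔ G.Adj q p := or_comm

theorem mat_transpose : G.mat.transpose = G.mat := by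
  ext p q
  simp only [Matrix.transpose_apply, BlowupGraph.mat]
  by_cases h : p = q
  · subst h; rfl
  · rw [if_neg (Ne.symm h), if_neg h]
    simp [adj_symm G p q]

theorem offdiag_aux (p q : Fin n) (hpq : p < q) :
    (if G.Adj p q then (1 : ℚ) else 0) =
      (if p ∈ G.par q then 1 else 0) -
        ∑ m, (if p ∈ G.par m then (1 : ℚ) else 0) * (if q ∈ G.par m then 1 else 0) := by
  have hqp : q ∉ G.par p := fun h => lt_asymm hpq (G.par_lt p q h)
  have hterm : ∀ m, (if p ∈ G.par m then (1 : ℚ) else 0) * (if q ∈ G.par m then 1 else 0) =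
      if p ∈ G.par m ∧ q ∈ G.par m then 1 else 0 := by
    intro m; split_ifs <;> simp_all
  simp only [hterm]
  by_cases hp : p ∈ G.par q
  · have hset : ∀ m, p ∈ G.par m → q ∈ G.par m → G.par m = {p, q} := by
      intro m h1 h2
      refine (Finset.eq_of_subset_of_card_le (by simp [Finset.insert_subset_iff, h1, h2]) ?_).symm
      rw [Finset.card_pair hpq.ne]
      exact G.card_le_two m
    by_cases hm : ∃ m, p ∈ G.par m ∧ q ∈ G.par m
    · obtain ⟨m, h1, h2⟩ := hm
      have huniq : ∀ m', (p ∈ G.par m' ∧ q ∈ G.par m') → m' = m := by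
        rintro m' ⟨h1', h2'⟩
        rcases lt_trichotomy m' m with h | h | h
        · exact absurd (hset m' h1' h2') ((G.meet_of_two m p q h1 h2 hpq).2 m' (G.par_lt m' q h2') h)
        · exact h
        · exact absurd (hset m h1 h2) ((G.meet_of_two m' p q h1' h2' hpq).2 m (G.par_lt m q h2) h)
      have hadj : ¬ G.Adj p q := by
        rintro (⟨-, h⟩ | ⟨h, -⟩)
        · exact h m (G.par_lt m q h2) (hset m h1 h2)
        · exact hqp h
      rw [if_neg hadj, if_pos hp, Finset.sum_eq_single m (fun b _ hb => if_neg fun h => hb (huniq b h))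
        (by simp), if_pos ⟨h1, h2⟩]
      norm_num
    · push_neg at hm
      have hadj : G.Adj p q := by
        refine Or.inl ⟨hp, fun m _ h => hm m ?_ ?_⟩ <;> simp [h]
      rw [if_pos hadj, if_pos hp, Finset.sum_eq_zero fun b _ => if_neg fun h => hm b h.1 h.2]
      norm_num
  · have hadj : ¬ G.Adj p q := fun h => h.elim (fun h => hp h.1) fun h => hqp h.1
    rw [if_neg hadj, if_neg hp, Finset.sum_eq_zero fun b _ =>
      if_neg fun h => hp (G.meet_of_two b p q h.1 h.2 hpq).1]
    norm_num

theorem sum_delta (p q : Fin n) (a b : Fin n → ℚ) :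
    ∑ m, ((if p = m then 1 else 0) - a m) * ((if q = m then 1 else 0) - b m) =
      (if p = q then 1 else 0) - b p - a q + ∑ m, a m * b m := by
  have h : ∀ m, ((if p = m then (1 : ℚ) else 0) - a m) * ((if q = m then 1 else 0) - b m) =
      (if p = m then (if q = m then 1 else 0) - b m else 0) - (if q = m then a m else 0) +
        a m * b m := by
    intro m; split_ifs <;> ring
  simp only [h, Finset.sum_add_distrib, Finset.sum_sub_distrib, Finset.sum_ite_eq,
    Finset.mem_univ, if_true]
  simp [eq_comm]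

theorem mat_eq : G.mat = -(U G * (U G).transpose) := by
  ext p q
  simp only [Matrix.neg_apply, Matrix.mul_apply, Matrix.transpose_apply, U]
  rw [sum_delta p q]
  by_cases h : p = q
  · subst h
    simp [BlowupGraph.mat, selfInt, self_notMem_par, ← ite_and]
    ring
  · simp only [BlowupGraph.mat, if_neg h]
    rcases lt_or_gt_of_ne h with hl | hl
    · have hqp : q ∉ G.par p := fun h => lt_asymm hl (G.par_lt p q h)
      rw [offdiag_aux G p q hl, if_neg hqp]
      ring
    · have hpq : p ∉ G.par q := fun h => lt_asymm hl (G.par_lt q p h)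
      rw [if_congr (adj_symm G p q) rfl rfl, offdiag_aux G q p hl, if_neg hpq]
      simp only [mul_comm (if q ∈ G.par _ then (1 : ℚ) else 0)]
      ring

theorem mult_eq : (fun i j => (G.mult i j : ℚ) : Matrix (Fin n) (Fin n) ℚ) =
    (T G).transpose * T G := by
  ext i j
  simp [Matrix.mul_apply, BlowupGraph.mult, T]

theorem mult_mul_mat :
    ((T G).transpose * T G) * G.mat = -1 := by
  rw [mat_eq, mul_neg]
  congr 1
  calc (T G).transpose * T G * (U G * (U G).transpose)
      = (T G).transpose * (T G * U G) * (U G).transpose := by simp [Matrix.mul_assoc]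
    _ = (U G * T G).transpose := by rw [T_mul_U, Matrix.mul_one, Matrix.transpose_mul]
    _ = 1 := by rw [U_mul_T, Matrix.transpose_one]

theorem isUnit_sub (I : Finset (Fin n)) :
    IsUnit (G.mat.submatrix (fun x : I => x.1) (fun x : I => x.1)).det := by
  rw [← Matrix.isUnit_iff_isUnit_det, ← Matrix.mulVec_injective_iff_isUnit]
  let e : Matrix (Fin n) I ℚ := fun i a => if i = a.1 then 1 else 0
  have he : G.mat.submatrix (fun x : I => x.1) (fun x : I => x.1) = e.transpose * G.mat * e := by
    ext a b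
    simp [Matrix.mul_apply, e]
  show Function.Injective (Matrix.mulVecLin (G.mat.submatrix (fun x : I => x.1) (fun x : I => x.1)))
  rw [injective_iff_map_eq_zero]
  intro v hv
  let V := (U G).transpose *ᵥ (e *ᵥ v)
  have hq : V ⬝ᵥ V = 0 := by
    have : v ⬝ᵥ (G.mat.submatrix (fun x : I => x.1) (fun x : I => x.1) *ᵥ v) = -(V ⬝ᵥ V) := by
      rw [he, mat_eq]
      simp only [Matrix.mul_neg, Matrix.neg_mul, Matrix.neg_mulVec, dotProduct_neg, neg_inj]
      simp only [V, ← Matrix.mulVec_mulVec]
      rw [Matrix.dotProduct_mulVec v, Matrix.dotProduct_mulVec, Matrix.mulVec_transpose,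
        Matrix.vecMul_transpose]
    rw [show G.mat.submatrix (fun x : I => x.1) (fun x : I => x.1) *ᵥ v = 0 from hv,
      dotProduct_zero] at this
    linarith
  have hV : V = 0 := dotProduct_self_eq_zero.1 hq
  have hw : e *ᵥ v = 0 := by
    calc e *ᵥ v = ((T G).transpose * (U G).transpose) *ᵥ (e *ᵥ v) := by
          rw [← Matrix.transpose_mul, U_mul_T, Matrix.transpose_one, Matrix.one_mulVec]
      _ = (T G).transpose *ᵥ V := (Matrix.mulVec_mulVec _ _ _).symm
      _ = 0 := by rw [hV, Matrix.mulVec_zero]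
  funext a
  have := congrFun hw a.1
  simpa [Matrix.mulVec, dotProduct, e, Subtype.coe_inj] using this

theorem sum_mult_pairing (I : Finset (Fin n)) (i j : Fin n) (hi : i ∉ I) :
    ∑ l ∈ Finset.univ.filter (fun l => l ∉ I), (G.mult i l : ℚ) * G.pairing I l j =
      -(1 : Matrix (Fin n) (Fin n) ℚ) i j := by
  let A : Fin n → Fin n → ℚ := fun a b => (G.mult a b : ℚ)
  let M := G.mat
  let N := M.submatrix (fun x : I => x.1) (fun x : I => x.1)
  have hA : ∀ a, ∑ l ∈ Finset.univ.filter (fun l => l ∉ I), A i l * M l a =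
      -(1 : Matrix (Fin n) (Fin n) ℚ) i a - ∑ c : I, A i c.1 * M c.1 a := by
    intro a
    have h := congrFun (congrFun (mult_mul_mat G) i) a
    rw [← mult_eq] at h
    simp only [Matrix.mul_apply, Matrix.neg_apply] at h
    rw [eq_sub_iff_add_eq, ← h, Finset.sum_coe_sort I (fun c => A i c * M c a), add_comm]
    rw [show Finset.univ.filter (fun l => l ∉ I) = Iᶜ by ext; simp, Finset.sum_add_sum_compl]
  show ∑ l ∈ _, A i l * (M l j - ∑ a : I, ∑ b : I, M l a.1 * N⁻¹ a b * M b.1 j) = _
  simp only [mul_sub, Finset.sum_sub_distrib, Finset.mul_sum]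
  rw [hA, Finset.sum_comm]
  have hzero : ∀ a : I, (1 : Matrix (Fin n) (Fin n) ℚ) i a.1 = 0 := fun a =>
    Matrix.one_apply_ne fun h : i = a.1 => hi (h ▸ a.2)
  have hkey : ∑ a : I, ∑ l ∈ Finset.univ.filter (fun l => l ∉ I),
      ∑ b : I, A i l * (M l a.1 * N⁻¹ a b * M b.1 j) = -∑ c : I, A i c.1 * M c.1 j := by
    calc _ = ∑ a : I, ∑ b : I,
          (∑ l ∈ Finset.univ.filter (fun l => l ∉ I), A i l * M l a.1) * (N⁻¹ a b * M b.1 j) := by
          refine Finset.sum_congr rfl fun a _ => ?_
          rw [Finset.sum_comm]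
          refine Finset.sum_congr rfl fun b _ => ?_
          rw [Finset.sum_mul]
          exact Finset.sum_congr rfl fun l _ => by ring
      _ = -∑ b : I, (((fun c : I => A i c.1) ᵥ* N) ᵥ* N⁻¹) b * M b.1 j := by
          simp only [hA, hzero, neg_zero, zero_sub, neg_mul, Finset.sum_neg_distrib]
          congr 1
          rw [Finset.sum_comm]
          refine Finset.sum_congr rfl fun b _ => ?_
          simp only [Matrix.vecMul, dotProduct, Finset.sum_mul, N, Matrix.submatrix_apply]
          exact Finset.sum_congr rfl fun a _ => Finset.sum_congr rfl fun c _ => by ring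
      _ = _ := by
          rw [Matrix.vecMul_vecMul, Matrix.mul_nonsing_inv _ (isUnit_sub G I), Matrix.vecMul_one]
  rw [hkey]
  ring

theorem pairing_symm (I : Finset (Fin n)) (i j : Fin n) : G.pairing I i j = G.pairing I j i := by
  let N := G.mat.submatrix (fun x : I => x.1) (fun x : I => x.1)
  have hM : ∀ a b, G.mat a b = G.mat b a := fun a b => congrFun (congrFun (mat_transpose G) b) a
  have hN : ∀ a b, N⁻¹ a b = N⁻¹ b a := by
    intro a b
    have h : N⁻¹.transpose = N⁻¹ := by
      rw [Matrix.transpose_nonsing_inv, Matrix.transpose_submatrix, mat_transpose]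
    exact congrFun (congrFun h b) a
  unfold pairing
  rw [hM i j, Finset.sum_comm]
  congr 1
  refine Finset.sum_congr rfl fun a _ => Finset.sum_congr rfl fun b _ => ?_
  rw [hM i b, hM a j]
  show G.mat b i * N⁻¹ b a * G.mat j a = G.mat j a * N⁻¹ a b * G.mat b i
  rw [hN b a]
  ring

theorem lNum_eq (I : Finset (Fin n)) (σ : Equiv.Perm (Fin n)) :
    G.lNum I σ = ArLef.BlowupGraph.rNum I σ := by
  unfold lNum rNum
  rw [Finset.sum_congr rfl fun i hi => by
    rw [Finset.sum_congr rfl fun j _ => by rw [pairing_symm G I (σ i) j],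
      sum_mult_pairing G I i (σ i) (Finset.mem_filter.1 hi).2]]
  simp only [Matrix.one_apply, Finset.sum_neg_distrib, Finset.sum_boole, Finset.filter_filter]
  congr 3
  ext x
  simp [eq_comm]

end Groth.Agent.ArLefGraph
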